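import Mathlib
import Cfsg.Agent.Glau.Char
import Cfsg.Agent.PLocal.PSolv
import Cfsg.Agent.PLocal.PConstr
import Cfsg.Agent.Solv.Coprime

/-! S3019 (two Sylow subgroups generate a `p`-solvable group): definitions.

`B0 M G`, `sS A χ = ∑_{a ∈ A#} χ a` (real), `sharp` are those of `Glau/Char`. -/

set_option autoImplicit false
set_option linter.unusedSectionVars false

namespace Cfsg.Agent.TSy

open Cfsg Cfsg.Agent Subgroup Cfsg.Agent.PLocal Cfsg.Agent.PLocal.Amb Cfsg.Agent.Block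
open Cfsg.Agent.Char Cfsg.Agent.Glau

variable {G : Type*} [Group G]

/-- the degree as a real number -/
noncomputable def dR (χ : IrrCharacter G) : ℝ := charDegree (χ : G → ℂ)

theorem coe_dR (χ : IrrCharacter G) : (dR χ : ℂ) = (χ : G → ℂ) 1 := by
  rw [dR, ← coe_charDegree_irr]; rfl

theorem dR_pos (χ : IrrCharacter G) : 0 < dR χ := by
  unfold dR; exact_mod_cast charDegree_irr_pos χ

theorem dR_one : dR (irrOne G) = 1 := by
  have := coe_dR (irrOne G)
  rw [irrOne_apply] at this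
  exact_mod_cast this

theorem norm_le_dR [Finite G] (χ : IrrCharacter G) (g : G) : ‖(χ : G → ℂ) g‖ ≤ dR χ :=
  norm_le_charDegree χ.2.isCharacter g

/-- `∑_{χ ∈ B₀(G)} |χ z|²` for a `p`-element `z` -/
noncomputable def gam (M : Ideal AlgInt) (z : G) : ℝ := (lamB M (centralizer ({z} : Set G))).re

theorem coe_gam [Finite G] (M : Ideal AlgInt) (z : G) :
    (gam M z : ℂ) = lamB M (centralizer ({z} : Set G)) := by
  rw [gam, lamB_eq]; simp

/-- the number of nonidentity elements of `A` conjugate to `z` -/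
noncomputable def cnt (A : Subgroup G) (z : G) : ℕ := Set.ncard {c | c ∈ A ∧ c ≠ 1 ∧ IsConj z c}

/-- character-theoretic interface: every conjugate `h B h⁻¹` can be moved into `A`. -/
def CL [Fintype G] (M : Ideal AlgInt) (p : ℕ) (A B : Subgroup G) : Prop :=
  ∀ h : G, ∃ k : G, cj(k, B) ≤ A ∧ ∀ b ∈ B,
    ¬ p ∣ orderOf ((k * b * k⁻¹)⁻¹ * (h * b * h⁻¹)) ∧
    ∀ a ∈ A, a * (k * b * k⁻¹) ≠ 1 → ∀ χ ∈ B0 M G,
      (χ : G → ℂ) (a * (h * b * h⁻¹)) = (χ : G → ℂ) (a * (k * b * k⁻¹))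

/-- `Z(P)` -/
def Zc (P : Subgroup G) : Subgroup G := P ⊓ 𝐂[P]

/-- the weak closure of the `p`-central elements -/
def Wc (P : Subgroup G) : Subgroup G := closure {c | c ∈ P ∧ ∃ g : G, c ∈ cj(g, Zc P)}

end Cfsg.Agent.TSy
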