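import Mathlib
import Cfsg.Agent.TSy.Defs

/-! S3019: the trace inequality and the cubic identity.
Notation: `d = dR χ`, `α = |A|`, `β = |B|`, `Σ_A = ∑_{a ∈ A} χ a = sS A χ + d` (`sum_subgroup`, `coe_sS`),
for `h` with `k` from `CL`: `θ b = k b k⁻¹ ∈ A`, `b' = h b h⁻¹`, `δ_h b = d - χ ((θ b)⁻¹ * b')`. -/

set_option autoImplicit false
set_option linter.unusedSectionVars false
set_option linter.unusedVariables false

namespace Cfsg.Agent.TSy

open Cfsg Cfsg.Agent Subgroup Cfsg.Agent.PLocal Cfsg.Agent.PLocal.Amb Cfsg.Agent.Block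
open Cfsg.Agent.Char Cfsg.Agent.Glau
open scoped ComplexConjugate commutatorElement

variable {G : Type*} [Group G] [Fintype G] {p : ℕ} [hp : Fact p.Prime] {M : Ideal AlgInt}
  {A B : Subgroup G}

/-- `IsIrrCharacter.sum_conj_mul_mul` with `ψ = χ` gives `d ∑_g conj (χ g) χ (g h) = |G| χ h`; with
`h = x⁻¹ y` and `g ↦ g x` (class function: `χ (g x x⁻¹ y) = χ (g y)`):
`|G| χ (x⁻¹ y) = d ∑_g conj (χ (g x)) χ (g y)`.  So `|G| * LHS = d ∑_g ‖∑_j c j χ (g * k j)‖²`. -/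
theorem posdef {ι : Type*} [Fintype ι] (χ : IrrCharacter G) (c : ι → ℝ) (k : ι → G) :
    0 ≤ ∑ i, ∑ j, c i * c j * ((χ : G → ℂ) ((k i)⁻¹ * k j)).re := by
  have key : ∀ x y : G, (Nat.card G : ℂ) * (χ : G → ℂ) (x⁻¹ * y) =
      (dR χ : ℂ) * ∑ g, conj ((χ : G → ℂ) (g * x)) * (χ : G → ℂ) (g * y) := fun x y => by
    have := χ.2.sum_conj_mul_mul χ.2.isClassFunction (x⁻¹ * y)
    rw [χ.2.inner_self, mul_one, ← Equiv.sum_comp (Equiv.mulRight x)] at this
    simpa only [Equiv.coe_mulRight, mul_assoc, mul_inv_cancel_left, coe_dR] using this.symm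
  have e : (Nat.card G : ℂ) * ∑ i, ∑ j, (c i : ℂ) * c j * (χ : G → ℂ) ((k i)⁻¹ * k j) =
      ((dR χ * ∑ g, Complex.normSq (∑ j, (c j : ℂ) * (χ : G → ℂ) (g * k j)) : ℝ) : ℂ) := by
    push_cast
    simp only [Complex.normSq_eq_conj_mul_self, map_sum, map_mul, Complex.conj_ofReal, Finset.sum_mul_sum]
    rw [Finset.sum_comm (γ := G), Finset.mul_sum, Finset.mul_sum]
    refine Finset.sum_congr rfl fun i _ => ?_
    rw [Finset.sum_comm (γ := G), Finset.mul_sum, Finset.mul_sum]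
    refine Finset.sum_congr rfl fun j _ => ?_
    rw [mul_left_comm, key, mul_left_comm, Finset.mul_sum]
    congr 1
    exact Finset.sum_congr rfl fun g _ => by ring
  have e' := congrArg Complex.re e
  rw [Complex.ofReal_re, ← Complex.ofReal_natCast, Complex.re_ofReal_mul] at e'
  simp only [Complex.re_sum, ← Complex.ofReal_mul, Complex.re_ofReal_mul] at e'
  have h0 : (0 : ℝ) < Nat.card G := by exact_mod_cast Nat.card_pos
  refine (mul_nonneg_iff_of_pos_left h0).1 (e' ▸ mul_nonneg (dR_pos χ).le ?_)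
  exact Finset.sum_nonneg fun _ _ => Complex.normSq_nonneg _

theorem chr1_w {B : Type*} [Group B] [Fintype B] [DecidableEq B] (z : B × B) :
    ∑ x : B × B, ((if x.1 = x.2 then (Nat.card B : ℝ) else 0) - 1) *
      ((if (x * z).1 = (x * z).2 then (Nat.card B : ℝ) else 0) - 1) =
      (if z.1 = z.2 then (Nat.card B : ℝ) ^ 3 else 0) - (Nat.card B : ℝ) ^ 2 := by
  rw [Fintype.sum_prod_type]
  have e : ∀ a : B, ∑ b : B, ((if a = b then (Nat.card B : ℝ) else 0) - 1) *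
      ((if a * z.1 = b * z.2 then (Nat.card B : ℝ) else 0) - 1) =
      (if z.1 = z.2 then (Nat.card B : ℝ) ^ 2 else 0) - Nat.card B := fun a => by
    simp only [sub_mul, mul_sub, Finset.sum_sub_distrib, mul_one, one_mul, ite_mul, zero_mul, Finset.sum_ite_eq,
      Finset.mem_univ, if_true, Finset.sum_const, Finset.card_univ, nsmul_eq_mul, ← mul_inv_eq_iff_eq_mul,
      ← Nat.card_eq_fintype_card]
    simp only [mul_inv_eq_iff_eq_mul, mul_right_inj]
    split_ifs <;> ring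
  simp only [Prod.fst_mul, Prod.snd_mul, e, Finset.sum_const, Finset.card_univ, nsmul_eq_mul, ← Nat.card_eq_fintype_card]
  split_ifs <;> ring

/-- `F a b = χ ((k a k⁻¹)⁻¹ * (h b h⁻¹))`.  `posdef` on `ι = B × B` with elements
`(h b h⁻¹) * (k a k⁻¹)⁻¹` and weights `(if a = b then β else 0) - 1`; the entry at `((a₁,b₁),(a₂,b₂))` is
`F (a₁⁻¹ a₂) (b₁⁻¹ b₂)` up to cyclic permutation, and the double sum is
`β³ D - 2 β² T + β² T` with `D = ∑_b F b b`, `T = ∑_{a,b} F a b`. -/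
theorem diag_ge [Fintype B] (χ : IrrCharacter G) (h k : G) :
    (∑ a : B, ∑ b : B, (χ : G → ℂ) ((k * a * k⁻¹)⁻¹ * (h * b * h⁻¹))).re ≤
      Nat.card B * (∑ b : B, (χ : G → ℂ) ((k * b * k⁻¹)⁻¹ * (h * b * h⁻¹))).re := by
  classical
  let F : B × B → ℝ := fun z => ((χ : G → ℂ) ((k * z.1 * k⁻¹)⁻¹ * (h * z.2 * h⁻¹))).re
  let c : B × B → ℝ := fun x => (if x.1 = x.2 then (Nat.card B : ℝ) else 0) - 1
  have h0 := posdef χ c fun x : B × B => h * x.2 * h⁻¹ * (k * x.1 * k⁻¹)⁻¹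
  have e : ∀ x : B × B, ∑ y : B × B, c x * c y * ((χ : G → ℂ) ((h * x.2 * h⁻¹ * (k * x.1 * k⁻¹)⁻¹)⁻¹ *
      (h * y.2 * h⁻¹ * (k * y.1 * k⁻¹)⁻¹))).re = ∑ z : B × B, c x * c (x * z) * F z := fun x => by
    rw [← Equiv.sum_comp (Equiv.mulLeft x)]
    refine Finset.sum_congr rfl fun z _ => ?_
    rw [Equiv.coe_mulLeft, ← mul_assoc _ (h * _ * h⁻¹), χ.2.isClassFunction.mul_comm]
    congr 3
    simp only [Prod.fst_mul, Prod.snd_mul, coe_mul]
    group
  simp only [e] at h0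
  rw [Finset.sum_comm] at h0
  have w : ∀ z : B × B, ∑ x : B × B, c x * c (x * z) = _ := chr1_w
  simp only [← Finset.sum_mul, w] at h0
  simp only [sub_mul, Finset.sum_sub_distrib, ← Finset.mul_sum] at h0
  simp only [Fintype.sum_prod_type, ite_mul, zero_mul, Finset.sum_ite_eq, Finset.mem_univ, if_true, ← Finset.mul_sum] at h0
  have h1 : (0 : ℝ) < Nat.card B := by exact_mod_cast Nat.card_pos
  simp only [Complex.re_sum]
  refine le_of_mul_le_mul_left ?_ (pow_pos h1 2)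
  simp only [F] at h0
  linarith

/-- For a subgroup `C ≤ A` containing `θ b`: all terms but `a = (θ b)⁻¹` are `χ (a * θ b)`, and
`∑_{a ∈ C} χ (a * θ b) = ∑_{a ∈ C} χ a`. -/
theorem sum_row {χ : G → ℂ} {C : Subgroup G} [Fintype C] {t b' : G} (ht : t ∈ C)
    (h : ∀ a ∈ C, a * t ≠ 1 → χ (a * b') = χ (a * t)) :
    ∑ a : C, χ (a * b') = ∑ a : C, χ a - (χ 1 - χ (t⁻¹ * b')) := by
  rw [← Equiv.sum_comp (Equiv.mulRight (⟨t, ht⟩ : C)) fun a : C => χ a, eq_sub_iff_add_eq, ← eq_sub_iff_add_eq',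
    ← Finset.sum_sub_distrib, Finset.sum_eq_single (⟨t, ht⟩⁻¹ : C)]
  · simp
  · intro a _ ha
    rw [h a a.2 fun e => ha (Subtype.ext (eq_inv_of_mul_eq_one_left e))]
    exact sub_self _
  · simp

theorem chr1_row {χ : IrrCharacter G} {k : G → G} {b : G} (h1 : ∀ h, k h * b * (k h)⁻¹ ∈ A)
    (h2 : ∀ h, ∀ a ∈ A, a * (k h * b * (k h)⁻¹) ≠ 1 →
      (χ : G → ℂ) (a * (h * b * h⁻¹)) = (χ : G → ℂ) (a * (k h * b * (k h)⁻¹))) :
    dR χ * ∑ h, (dR χ - ((χ : G → ℂ) ((k h * b * (k h)⁻¹)⁻¹ * (h * b * h⁻¹))).re) =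
      Nat.card G * (sS A χ + dR χ) * (dR χ - ((χ : G → ℂ) b).re) := by
  have := Fintype.ofFinite A
  have e : (χ : G → ℂ) 1 * ∑ h, ∑ a : A, (χ : G → ℂ) (a * (h * b * h⁻¹)) =
      Nat.card G * (∑ a : A, (χ : G → ℂ) a) * (χ : G → ℂ) b := by
    rw [Finset.sum_comm, Finset.mul_sum, Finset.mul_sum, Finset.sum_mul]
    exact Finset.sum_congr rfl fun a _ => irr_one_mul_sum_conj χ.2 _ _
  simp only [fun h => sum_row (h1 h) (h2 h)] at e
  rw [sum_subgroup A χ.1, ← coe_sS, ← coe_dR, Finset.sum_sub_distrib, Finset.sum_const, Finset.card_univ, nsmul_eq_mul,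
    ← Nat.card_eq_fintype_card] at e
  have e' : (dR χ : ℂ) * ∑ h, (dR χ - (χ : G → ℂ) ((k h * b * (k h)⁻¹)⁻¹ * (h * b * h⁻¹))) =
      ((Nat.card G * (sS A χ + dR χ) : ℝ) : ℂ) * (dR χ - (χ : G → ℂ) b) := by
    push_cast
    linear_combination -e
  simpa only [Complex.re_ofReal_mul, Complex.re_sum, Complex.sub_re, Complex.ofReal_re] using congrArg Complex.re e'

/-- Choose `k = k h`.  `Δ_h = ∑_{b ∈ B} δ_h b`.  (1) `sum_row` for `C = A`, summed over `b ∈ B` and `h`,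
with `irr_one_mul_sum_conj`: `|G| Σ_A Σ_B = d (|G| β Σ_A - ∑_h Δ_h)`.  (2) `sum_row` for `C = cj(k, B)`
(reindex `a ↦ (k a k⁻¹)⁻¹`; `∑_{c ∈ cj(k,B)} χ c = Σ_B`): `T = β Σ_B - Δ_h`, `D = β d - Δ_h`, so `diag_ge`
gives `(β - 1) re Δ_h ≤ β (β d - Σ_B)`.  (3) `β d - Σ_B = ∑_b (d - re χ b) > 0` (`norm_le_dR`; for the
given `b`, `re χ b < d`).  From (1) `d ∑_h re Δ_h = |G| Σ_A (β d - Σ_B)`; multiply (2) by `d`, sum over
`h`, cancel `|G| (β d - Σ_B) > 0`. -/
theorem bound (h : CL M p A B) {χ : IrrCharacter G} (hχ : χ ∈ B0 M G)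
    (hb : ∃ b ∈ B, (χ : G → ℂ) b ≠ (χ : G → ℂ) 1) :
    ((Nat.card B : ℝ) - 1) * (sS A χ + dR χ) ≤ Nat.card B * dR χ := by
  classical
  have := Fintype.ofFinite B
  choose k hk hk' using h
  let δ : G → B → ℝ := fun h b => dR χ - ((χ : G → ℂ) ((k h * b * (k h)⁻¹)⁻¹ * (h * b * h⁻¹))).re
  let E : ℝ := ∑ b : B, (dR χ - ((χ : G → ℂ) b).re)
  have le : ∀ g, ((χ : G → ℂ) g).re ≤ dR χ := fun g => (Complex.re_le_norm _).trans (norm_le_dR χ g)
  have hE : 0 < E := by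
    obtain ⟨b, hb, hb'⟩ := hb
    refine Finset.sum_pos' (fun b _ => sub_nonneg.2 (le b)) ⟨⟨b, hb⟩, Finset.mem_univ _, sub_pos.2 ((le b).lt_of_ne fun e => hb' ?_)⟩
    have e1 : ((χ : G → ℂ) b).re = ‖(χ : G → ℂ) b‖ := (Complex.re_le_norm _).antisymm (e ▸ norm_le_dR χ b)
    rw [← coe_dR, ← e]
    exact Complex.ext rfl (by simpa using Complex.abs_re_eq_norm.1 (by rw [e1, abs_norm]))
  have h1 : dR χ * ∑ h, ∑ b, δ h b = Nat.card G * (sS A χ + dR χ) * E := by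
    rw [Finset.sum_comm, Finset.mul_sum, Finset.mul_sum]
    exact Finset.sum_congr rfl fun b _ => chr1_row (fun h => hk h (conj_mem_cj _ b.2)) fun h a ha e =>
      (hk' h b b.2).2 a ha e χ hχ
  have h2 : ∀ h, ((Nat.card B : ℝ) - 1) * ∑ b, δ h b ≤ Nat.card B * E := fun h => by
    have d := diag_ge (B := B) χ h (k h)
    have r : ∀ b : B, ∑ a : B, ((χ : G → ℂ) ((k h * a * (k h)⁻¹)⁻¹ * (h * b * h⁻¹))).re =
        ∑ a : B, ((χ : G → ℂ) a).re - δ h b := fun b => by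
      rw [← Equiv.sum_comp ((Equiv.inv B).trans (Equiv.mulRight b)) fun a : B => ((χ : G → ℂ) a).re, eq_sub_iff_add_eq,
        ← eq_sub_iff_add_eq', ← Finset.sum_sub_distrib, Finset.sum_eq_single b]
      · simp [δ, ← coe_dR]
      · intro a _ ha
        rw [(hk' h b b.2).2 _ (inv_mem (hk h (conj_mem_cj _ a.2))) (fun e => ha (Subtype.ext (by
          simpa using inv_mul_eq_one.1 e))) χ hχ, sub_eq_zero, ← χ.2.isClassFunction _ (k h)]
        congr 2
        simp only [Equiv.trans_apply, Equiv.inv_apply, Equiv.coe_mulRight, coe_mul, InvMemClass.coe_inv]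
        group
      · simp
    rw [Finset.sum_comm] at d
    simp only [Complex.re_sum, r, Finset.sum_sub_distrib, Finset.sum_const, Finset.card_univ, nsmul_eq_mul,
      ← Nat.card_eq_fintype_card] at d
    simp only [E, δ, Finset.sum_sub_distrib, Finset.sum_const, Finset.card_univ, nsmul_eq_mul,
      ← Nat.card_eq_fintype_card] at d ⊢
    linarith
  have h3 := Finset.sum_le_sum fun h (_ : h ∈ Finset.univ) => h2 h
  rw [← Finset.mul_sum, Finset.sum_const, Finset.card_univ, nsmul_eq_mul, ← Nat.card_eq_fintype_card] at h3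
  have h0 : (0 : ℝ) < Nat.card G := by exact_mod_cast Nat.card_pos
  refine le_of_mul_le_mul_left ?_ (mul_pos h0 hE)
  have h4 := mul_le_mul_of_nonneg_left h3 (dR_pos χ).le
  rw [mul_left_comm, h1] at h4
  linarith

/-- `sum_row` for `C = A` summed over `h`: `∑_h δ_h b = |G| Σ_A (1 - χ b / d)`.  For each `h`,
`∑_{χ ∈ B0} sS A χ * δ_h b = ∑_{c ∈ A#} ∑_χ (χ 1 - χ r) conj (χ c) = 0` for the `p`-regular
`r = (θ b)⁻¹ b'` (`sS` is real: `coe_sS` + conjugate; `sum_mul_conj_eq_zero_of_val hM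
(val_blockCoeff_principal_le_one hM)`, `pPart r = 1`, `pPart c = c ≠ 1`; see `Glau.Hyp.kernel`).
Take real parts. -/
theorem ident (hM : IsPModular p M) (hA : IsPGroup p A) (h : CL M p A B) {b : G} (hb : b ∈ B) :
    ∑ χ ∈ B0 M G, sS A χ * (sS A χ + dR χ) * (1 - ((χ : G → ℂ) b).re / dR χ) = 0 := by
  classical
  choose k hk hk' using h
  have o : ∀ r : G, ¬ p ∣ orderOf r → ∑ χ ∈ B0 M G, sS A χ * ((χ : G → ℂ) r).re = 0 := fun r hr => by
    have h1 : ∀ χ : IrrCharacter G, (sS A χ : ℂ) = ∑ u ∈ sharp A, conj ((χ : G → ℂ) u) := fun χ => by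
      rw [← map_sum, ← coe_sS, Complex.conj_ofReal]
    have h2 : ∑ χ ∈ B0 M G, (sS A χ : ℂ) * (χ : G → ℂ) r = 0 := by
      simp only [h1, Finset.sum_mul, mul_comm (conj _)]
      rw [Finset.sum_comm]
      refine Finset.sum_eq_zero fun u hu => ?_
      rw [B0, ← finsum_mem_eq_finite_toFinset_sum]
      refine sum_mul_conj_eq_zero_of_val hM (val_blockCoeff_principal_le_one hM) ?_
      rw [pPart_eq_self_iff.2 (orderOf_eq_pow_of_mem hA (mem_sharp.1 hu).1), pPart_eq_one_iff.2 hr]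
      exact fun e => (mem_sharp.1 hu).2 (isConj_one_right.1 e)
    simpa [Complex.re_sum] using congrArg Complex.re h2
  have h0 : (Nat.card G : ℝ) ≠ 0 := by exact_mod_cast Nat.card_pos.ne'
  refine mul_left_cancel₀ h0 ?_
  have e : ∀ χ ∈ B0 M G, Nat.card G * (sS A χ * (sS A χ + dR χ) * (1 - ((χ : G → ℂ) b).re / dR χ)) =
      ∑ h, (sS A χ * ((χ : G → ℂ) 1).re - sS A χ * ((χ : G → ℂ) ((k h * b * (k h)⁻¹)⁻¹ * (h * b * h⁻¹))).re) := fun χ hχ => by
    have := chr1_row (χ := χ) (fun h => hk h (conj_mem_cj _ hb)) fun h a ha e => (hk' h b hb).2 a ha e χ hχ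
    have d := (dR_pos χ).ne'
    simp only [← mul_sub, ← Finset.mul_sum, ← coe_dR, Complex.ofReal_re]
    field_simp
    linear_combination -sS A χ * this
  rw [Finset.mul_sum, Finset.sum_congr rfl e, Finset.sum_comm, mul_zero]
  refine Finset.sum_eq_zero fun h _ => ?_
  rw [Finset.sum_sub_distrib, o _ (hk' h b hb).1, o 1 not_dvd_orderOf_one, sub_self]

end Cfsg.Agent.TSy
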