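import Mathlib
import Cfsg.Agent.TSy.Defs

/-! S3019: orthogonality relations in the principal block (`kernel_principal` in Block/Columns; pattern `Glau.Hyp.kernel`). -/

set_option autoImplicit false
set_option linter.unusedSectionVars false
set_option linter.unusedVariables false

namespace Cfsg.Agent.TSy

open Cfsg Cfsg.Agent Subgroup Cfsg.Agent.PLocal Cfsg.Agent.PLocal.Amb Cfsg.Agent.Block
open Cfsg.Agent.Char Cfsg.Agent.Glau
open scoped ComplexConjugate commutatorElement

variable {G : Type*} [Group G] [Fintype G] {p : ℕ} [hp : Fact p.Prime] {M : Ideal AlgInt}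
  {A : Subgroup G}

open Classical in
theorem chr2_ker (hM : IsPModular p M) {y w : G} (hy : ∃ k, orderOf y = p ^ k) (hw : ∃ k, orderOf w = p ^ k) :
    ∑ χ ∈ B0 M G, (χ : G → ℂ) y * conj ((χ : G → ℂ) w) = if IsConj y w then (gam M y : ℂ) else 0 := by
  have := kernel_principal hM hy hw
  rw [finsum_mem_eq_finite_toFinset_sum _ (Set.toFinite _), ← coe_gam] at this
  convert this
  rfl

theorem chr2_sum (hM : IsPModular p M) (hA : IsPGroup p A) {z : G} (hz : ∃ k, orderOf z = p ^ k) :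
    ∑ χ ∈ B0 M G, (sS A χ : ℂ) * (χ : G → ℂ) z = cnt A z * gam M z := by
  classical
  have h1 : ∀ χ : IrrCharacter G, (sS A χ : ℂ) = ∑ u ∈ sharp A, conj ((χ : G → ℂ) u) := fun χ => by
    rw [← map_sum, ← coe_sS, Complex.conj_ofReal]
  simp only [h1, Finset.sum_mul, mul_comm (conj _)]
  rw [Finset.sum_comm, Finset.sum_congr rfl fun u hu =>
    chr2_ker hM hz (orderOf_eq_pow_of_mem hA (mem_sharp.1 hu).1)]
  exact sum_ite_eq_ncard _ _ _ fun a => by rw [mem_sharp, and_assoc]; rfl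

theorem chr2_zero (hM : IsPModular p M) (hA : IsPGroup p A) : ∑ χ ∈ B0 M G, sS A χ * dR χ = 0 := by
  have := chr2_sum hM hA (z := 1) ⟨0, by simp⟩
  rw [show cnt A 1 = 0 by
    rw [cnt, Set.ncard_eq_zero, Set.eq_empty_iff_forall_notMem]
    exact fun c hc => hc.2.1 (isConj_one_right.1 hc.2.2)] at this
  simp only [← coe_dR, Nat.cast_zero, zero_mul] at this
  exact_mod_cast this

theorem chr2_one (A : Subgroup G) : sS A (irrOne G) = Nat.card A - 1 := by
  simp [sS, irrOne_apply, card_sharp]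

theorem chr2_le (hM : IsPModular p M) (hA : IsPGroup p A) : (Nat.card A : ℝ) ≤ (lamB M G).re := by
  have := Fintype.ofFinite A
  have e : (lamB M G).re = ∑ χ ∈ B0 M G, (dR χ + sS A χ) * dR χ := by
    simp only [add_mul, Finset.sum_add_distrib, chr2_zero hM hA, add_zero]
    rw [lamB, finsum_mem_eq_finite_toFinset_sum _ (Set.toFinite _), Complex.re_sum]
    exact Finset.sum_congr rfl fun χ _ => by rw [← coe_dR]; simp
  rw [e]
  refine le_trans (by rw [chr2_one, dR_one]; linarith) (Finset.single_le_sum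
    (f := fun χ => (dR χ + sS A χ) * dR χ) (fun χ _ => mul_nonneg ?_ (dR_pos χ).le)
    (mem_B0.2 (irrOne_mem_principal hM)))
  obtain ⟨a, ha⟩ := (χ.2.isCharacter.restrict A).exists_nat_inner isCharacter_one
  rw [classInner_one_right, sum_subgroup A χ.1, ← coe_sS, ← coe_dR,
    inv_mul_eq_iff_eq_mul₀ (card_ne_zero A)] at ha
  have : dR χ + sS A χ = Nat.card A * a := by exact_mod_cast ha
  rw [this]
  positivity

/-- In `X = C(z)`: `θ = ∑_{ξ ∈ b₀} ξ(1) ξ` is a character (`isCharacter_sum_nsmul_irr`) with `θ 1 = lamB > 0`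
(`lamB_eq`, `irrOne_mem_principal`) vanishing on `P#` (`kernel_principal` in `X` with `w = 1`), so
`⟨θ|_P, 1⟩ = lamB / |P|` is a positive natural number. -/
theorem card_le_gam (hM : IsPModular p M) {z : G} {P : Subgroup G} (hP : IsPGroup p P)
    (h : P ≤ centralizer ({z} : Set G)) : (Nat.card P : ℝ) ≤ gam M z := by
  have := Fintype.ofFinite (centralizer ({z} : Set G))
  rw [← Grp.card_subgroupOf_of_le h]
  exact chr2_le hM (Amb.isPGroup_subgroupOf hP _)

/-- `kernel_principal` with `y = 1`, `w = c ∈ A#`. -/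
theorem sum_sS_dR (hM : IsPModular p M) (hA : IsPGroup p A) :
    ∑ χ ∈ B0 M G, sS A χ * dR χ = 0 := chr2_zero hM hA

/-- `sS = conj sS = ∑_{c ∈ A#} conj (χ c)`; `kernel_principal` with `y = z`, `w = c`; `sum_ite_eq_ncard`. -/
theorem sum_sS_re (hM : IsPModular p M) (hA : IsPGroup p A) {z : G} (hz : ∃ k, orderOf z = p ^ k) :
    ∑ χ ∈ B0 M G, sS A χ * ((χ : G → ℂ) z).re = cnt A z * gam M z := by
  simpa [Complex.re_sum] using congrArg Complex.re (chr2_sum hM hA hz)

theorem sum_norm_sq (hM : IsPModular p M) {z : G} (hz : ∃ k, orderOf z = p ^ k) :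
    ∑ χ ∈ B0 M G, ‖(χ : G → ℂ) z‖ ^ 2 = gam M z := by
  have := chr2_ker hM hz hz
  simp only [Complex.mul_conj', if_pos (IsConj.refl z)] at this
  exact_mod_cast this

theorem sS_eq (A : Subgroup G) (χ : IrrCharacter G) :
    sS A χ = ∑ a ∈ sharp A, ((χ : G → ℂ) a).re := Complex.re_sum _ _

/-- `card_sharp` -/
theorem sS_one (A : Subgroup G) : sS A (irrOne G) = Nat.card A - 1 := chr2_one A

theorem one_mem_B0 (hM : IsPModular p M) : irrOne G ∈ B0 M G := mem_B0.2 (irrOne_mem_principal hM)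

/-- `charKer χ` is normal; if it is `⊤` then `χ = d • 1`, and `⟨χ, 1⟩ ≠ 0` forces `χ = irrOne`. -/
theorem ne_of_simple [IsSimpleGroup G] {χ : IrrCharacter G} (hχ : χ ≠ irrOne G) {b : G} (hb : b ≠ 1) :
    (χ : G → ℂ) b ≠ (χ : G → ℂ) 1 := fun e =>
  hχ (Subtype.ext (eq_one_of_charKer_eq_top χ.2 (((charKer_irr_normal χ).eq_bot_or_eq_top).resolve_left
    fun r => hb (mem_bot.1 (r ▸ (mem_charKer_irr χ).2 e)))))

end Cfsg.Agent.TSy
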