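import Mathlib
import Cfsg.Agent.TSy.Chr1
import Cfsg.Agent.TSy.Chr2

/-! S3019: the two final inequalities. -/

set_option autoImplicit false
set_option linter.unusedSectionVars false
set_option linter.unusedVariables false

namespace Cfsg.Agent.TSy

open Cfsg Cfsg.Agent Subgroup Cfsg.Agent.PLocal Cfsg.Agent.PLocal.Amb Cfsg.Agent.Block
open Cfsg.Agent.Char Cfsg.Agent.Glau
open scoped ComplexConjugate commutatorElement

variable {G : Type*} [Group G] [Fintype G] {p : ℕ} [hp : Fact p.Prime] {M : Ideal AlgInt}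
  {A B V : Subgroup G}

theorem c3_ord (hA : IsPGroup p A) {z : G} (hz : z ∈ A) : ∃ k, orderOf z = p ^ k := by
  simpa only [orderOf_mk] using IsPGroup.iff_orderOf.1 hA ⟨z, hz⟩

theorem c3_num1 {ι : Type*} {X : Finset ι} {s d : ι → ℝ} {o : ι} {v : ℝ} (ho : o ∈ X) (hv : 3 ≤ v)
    (hs : s o = v - 1) (hd : d o = 1) (d0 : ∀ i, 0 < d i)
    (h1 : ∑ i ∈ X, s i ^ 2 * (v - 2 - s i / d i) = 0) (h2 : ∑ i ∈ X, s i * d i = 0)
    (h3 : ∀ i ∈ X, i ≠ o → (v - 1) * (s i + d i) ≤ v * d i)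
    (h4 : 2 * v * (v - 1) ≤ ∑ i ∈ X, s i ^ 2) : False := by
  classical
  rw [← Finset.add_sum_erase _ _ ho, hs] at h1 h2 h4
  rw [hd] at h1 h2
  obtain ⟨j, hj, hj0⟩ : ∃ j ∈ X.erase o, s j < 0 := by
    by_contra! h
    have := Finset.sum_nonneg fun i hi => mul_nonneg (h i hi) (d0 i).le
    linarith
  have k : ∀ i ∈ X.erase o, (v - 1) * (s i / d i) ≤ 1 := fun i hi => by
    have := h3 i (Finset.mem_of_mem_erase hi) (Finset.ne_of_mem_erase hi)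
    rw [← mul_div_assoc, div_le_one (d0 i)]
    linarith
  have h5 : ∑ i ∈ X.erase o, ((v - 1) * (v - 2) - 1) * s i ^ 2 <
      ∑ i ∈ X.erase o, (v - 1) * (s i ^ 2 * (v - 2 - s i / d i)) := by
    refine Finset.sum_lt_sum (fun i hi => ?_) ⟨j, hj, ?_⟩
    · nlinarith [mul_nonneg (sq_nonneg (s i)) (sub_nonneg.2 (k i hi))]
    · have e1 : 0 < s j ^ 2 := by nlinarith
      have e2 : (v - 1) * (s j / d j) < 1 :=
        (mul_neg_of_pos_of_neg (by linarith) (div_neg_of_neg_of_pos hj0 (d0 j))).trans one_pos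
      nlinarith [mul_pos e1 (sub_pos.2 e2)]
  rw [← Finset.mul_sum, ← Finset.mul_sum] at h5
  have h6 : ∑ i ∈ X.erase o, s i ^ 2 * (v - 2 - s i / d i) = (v - 1) ^ 2 := by
    rw [eq_neg_of_add_eq_zero_right h1]; ring
  rw [h6] at h5
  have h7 : (v - 1) * (v + 1) ≤ ∑ i ∈ X.erase o, s i ^ 2 := by linarith
  have h8 : 0 < (v - 1) * (v - 2) - 1 := by nlinarith
  have h9 := (mul_le_mul_of_nonneg_left h7 h8.le).trans_lt h5
  have h10 : (v - 1) ^ 2 ≤ ((v - 1) * (v - 2) - 1) * (v + 1) := by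
    nlinarith [mul_nonneg (sub_nonneg.2 hv) (sq_nonneg v)]
  nlinarith [mul_le_mul_of_nonneg_left h10 (show 0 ≤ v - 1 by linarith)]

/-- `v = |V|`, `s = sS V χ`, `d = dR χ`.  Sum `ident` over `b ∈ V` (`∑_{b ∈ V} re χ b = s + d`, `sS_eq`):
`∑_χ s (s + d) (v - (s + d) / d) = 0`, i.e. with `sum_sS_dR`: `∑_χ s² (v - 2 - s / d) = 0`; the term of
`irrOne` is `-(v - 1)²`.  For `χ ≠ irrOne`, `bound` + `ne_of_simple` give `s / d ≤ 1 / (v - 1)`.
`S = ∑_χ s² = ∑_{z ∈ V#} cnt V z * gam z ≥ 2 v (v - 1)` (`sS_eq`, `sum_sS_re`, `card_sharp`).  By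
`sum_sS_dR` (the term of `irrOne` is `v - 1 > 0`) some `χ₁` has `s < 0`, so with
`c = v - 2 - 1 / (v - 1) > 0`: `(v - 1)² = ∑_{χ ≠ 1} s² (v - 2 - s / d) > c (S - (v - 1)²) ≥ c (v - 1) (v + 1)`,
false because `c (v + 1) ≥ v - 1` for `v ≥ 3`. -/
theorem case1 [IsSimpleGroup G] (hM : IsPModular p M) (hV : IsPGroup p V) (h : CL M p V V)
    (h3 : 3 ≤ Nat.card V) (hK : ∀ z ∈ V, z ≠ 1 → 2 * (Nat.card V : ℝ) ≤ cnt V z * gam M z) :
    False := by
  have v3 : (3 : ℝ) ≤ Nat.card V := by exact_mod_cast h3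
  obtain ⟨b, hb⟩ : (sharp V).Nonempty := by
    rw [← Finset.card_pos, ← Nat.cast_pos (α := ℝ), card_sharp]; linarith
  rw [mem_sharp] at hb
  have h2 := sum_sS_dR hM hV
  refine c3_num1 (s := sS V) (d := dR) (one_mem_B0 hM) v3 (sS_one V) dR_one dR_pos ?_ h2
    (fun χ hχ h1 => bound h hχ ⟨b, hb.1, ne_of_simple h1 hb.2⟩) ?_
  · have e := Finset.sum_eq_zero (s := sharp V) fun b hb => ident hM hV h (mem_sharp.1 hb).1
    rw [Finset.sum_comm] at e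
    have e2 : ∀ χ ∈ B0 M G, sS V χ ^ 2 * (Nat.card V - 2 - sS V χ / dR χ) =
        ∑ b ∈ sharp V, sS V χ * (sS V χ + dR χ) * (1 - ((χ : G → ℂ) b).re / dR χ) -
          (Nat.card V - 1) * (sS V χ * dR χ) := fun χ _ => by
      rw [← Finset.mul_sum, Finset.sum_sub_distrib, ← Finset.sum_div, ← sS_eq, Finset.sum_const,
        nsmul_eq_mul, card_sharp]
      have := (dR_pos χ).ne'
      field_simp
      ring
    rw [Finset.sum_congr rfl e2, Finset.sum_sub_distrib, e, ← Finset.mul_sum, h2]; simp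
  · have e : ∑ χ ∈ B0 M G, sS V χ ^ 2 = ∑ z ∈ sharp V, (cnt V z : ℝ) * gam M z := by
      rw [← Finset.sum_congr rfl fun z hz => sum_sS_re hM hV (c3_ord hV (mem_sharp.1 hz).1),
        Finset.sum_comm]
      exact Finset.sum_congr rfl fun χ _ => by rw [← Finset.mul_sum, ← sS_eq, pow_two]
    rw [e, ← card_sharp, mul_comm, ← nsmul_eq_mul]
    exact Finset.card_nsmul_le_sum _ _ _ fun z hz => hK z (mem_sharp.1 hz).1 (mem_sharp.1 hz).2

/-- `3 f = (2 y - x)² + x y (1 - x)` if `0 ≤ x y`; all terms nonnegative otherwise. -/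
theorem ptw {x y : ℝ} (hx : x ≤ 1) (hy : y ≤ 1) : 3 * (x * y) ≤ x ^ 2 * (1 - y) + 4 * y ^ 2 := by
  rcases le_total 0 (x * y) with h | h
  · nlinarith [mul_nonneg h (sub_nonneg.2 hx), sq_nonneg (2 * y - x)]
  · nlinarith [mul_nonneg (sq_nonneg x) (sub_nonneg.2 hy), sq_nonneg y]

/-- `s = sS A χ`, `r = re χ b`, `L = ∑_χ s r = κ γ` (`sum_sS_re`, `κ = cnt A b`, `γ = gam b`).  `ident` and
`sum_sS_dR` give `∑_χ s² (1 - r / d) = L`.  For `χ ≠ irrOne`: `bound` (`β ≥ 2`) gives `s ≤ d`, so `ptw`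
(`x = s / d`, `y = r / d`, times `d²`, `r² ≤ ‖χ b‖²`): `3 s r ≤ s² (1 - r / d) + 4 ‖χ b‖²`.  For `irrOne`:
`s r = α - 1`, `s² (1 - r / d) = 0`, `‖χ b‖² = 1`.  Sum (`sum_norm_sq`):
`3 L ≤ 3 (α - 1) + L + 4 (γ - 1)`, so `(2 κ - 4) γ < 3 α`, against `κ ≥ 3`, `γ ≥ 2 α`. -/
theorem case2 [IsSimpleGroup G] (hM : IsPModular p M) (hA : IsPGroup p A) (h : CL M p A B) {b : G}
    (hb : b ∈ B) (hbA : b ∈ A) (h1 : b ≠ 1) (h3 : 3 ≤ cnt A b)
    (hγ : 2 * (Nat.card A : ℝ) ≤ gam M b) : False := by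
  classical
  have hz := c3_ord hA hbA
  have hL := sum_sS_re hM hA hz
  have h2 := sum_sS_dR hM hA
  have hN := sum_norm_sq hM hz
  have β : (2 : ℝ) ≤ Nat.card B := by
    have : Nontrivial B := ⟨⟨⟨b, hb⟩, 1, fun e => h1 (congrArg Subtype.val e)⟩⟩
    exact_mod_cast Finite.one_lt_card (α := B)
  have e : ∑ χ ∈ B0 M G, sS A χ ^ 2 * (1 - ((χ : G → ℂ) b).re / dR χ) = cnt A b * gam M b := by
    have e2 : ∀ χ ∈ B0 M G, sS A χ ^ 2 * (1 - ((χ : G → ℂ) b).re / dR χ) =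
        sS A χ * (sS A χ + dR χ) * (1 - ((χ : G → ℂ) b).re / dR χ) - sS A χ * dR χ +
          sS A χ * ((χ : G → ℂ) b).re := fun χ _ => by
      have := (dR_pos χ).ne'
      field_simp
      ring
    rw [Finset.sum_congr rfl e2, Finset.sum_add_distrib, Finset.sum_sub_distrib, ident hM hA h hb, h2, hL]
    simp
  have k : ∀ χ ∈ (B0 M G).erase (irrOne G), 3 * (sS A χ * ((χ : G → ℂ) b).re) ≤
      sS A χ ^ 2 * (1 - ((χ : G → ℂ) b).re / dR χ) + 4 * ‖(χ : G → ℂ) b‖ ^ 2 := fun χ hχ => by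
    have d0 := dR_pos χ
    have e1 := bound h (Finset.mem_of_mem_erase hχ) ⟨b, hb, ne_of_simple (Finset.ne_of_mem_erase hχ) h1⟩
    have e2 : sS A χ ≤ dR χ := by
      by_contra! e
      nlinarith [mul_nonneg (sub_nonneg.2 β) (d0.trans e).le]
    have e3 := Complex.abs_re_le_norm ((χ : G → ℂ) b)
    have e4 : ((χ : G → ℂ) b).re ^ 2 ≤ ‖(χ : G → ℂ) b‖ ^ 2 := by
      rw [← sq_abs]; exact pow_le_pow_left₀ (abs_nonneg _) e3 2
    have e5 := ptw ((div_le_one d0).2 e2)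
      ((div_le_one d0).2 ((le_abs_self _).trans (e3.trans (norm_le_dR χ b))))
    have e6 := mul_le_mul_of_nonneg_left e5 (sq_nonneg (dR χ))
    have e7 : dR χ ^ 2 * (3 * (sS A χ / dR χ * (((χ : G → ℂ) b).re / dR χ))) =
        3 * (sS A χ * ((χ : G → ℂ) b).re) := by field_simp
    have e8 : dR χ ^ 2 * ((sS A χ / dR χ) ^ 2 * (1 - ((χ : G → ℂ) b).re / dR χ) +
        4 * (((χ : G → ℂ) b).re / dR χ) ^ 2) =
        sS A χ ^ 2 * (1 - ((χ : G → ℂ) b).re / dR χ) + 4 * ((χ : G → ℂ) b).re ^ 2 := by field_simp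
    linarith
  have k2 := Finset.sum_le_sum k
  rw [Finset.sum_add_distrib, ← Finset.mul_sum, ← Finset.mul_sum] at k2
  rw [← Finset.add_sum_erase _ _ (one_mem_B0 hM)] at hL hN e
  simp only [sS_one, dR_one, irrOne_apply, Complex.one_re, norm_one] at hL hN e
  have κ : (3 : ℝ) ≤ cnt A b := by exact_mod_cast h3
  have α : (0 : ℝ) < Nat.card A := by exact_mod_cast Nat.card_pos
  nlinarith [mul_nonneg (sub_nonneg.2 κ) (show 0 ≤ gam M b by linarith)]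

end Cfsg.Agent.TSy
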