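import Mathlib
import Cfsg.Agent.TSy.Defs
import Cfsg.Agent.Block.CycPair
import Cfsg.Agent.Solv.Coprime2

/-! S3019: group-theoretic lemmas (pattern for the quotient by `O_{p'}`: `Fuk.le_core_of_pSolvable` in Fuk/St). -/

set_option autoImplicit false
set_option linter.unusedSectionVars false
set_option linter.unusedVariables false

namespace Cfsg.Agent.TSy

open Cfsg Cfsg.Agent Subgroup Cfsg.Agent.PLocal Cfsg.Agent.PLocal.Amb Cfsg.Agent.Block
open Cfsg.Agent.Char Cfsg.Agent.Glau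
open scoped ComplexConjugate commutatorElement

variable {G : Type*} [Group G] [Finite G] {p : ℕ} [hp : Fact p.Prime]

/-- Case `O_{p'}(G) = 1`.  `Q = pCore p G ≤ S`, `U = ⁅T, A⁆ ≤ T`, `C = Q ⊓ 𝐂[U]`, `N = Q ⊓ 𝐍[C]`.
`⁅T, Q ⊓ A⁆ ≤ T ⊓ Q = ⊥`, so `⁅Q, A⁆ ≤ Q ⊓ A ≤ Q ⊓ 𝐂[T] ≤ C`.  `T` and `A` normalise `U, Q, C, N`.  The
elements `g ∈ 𝐍[C] ⊓ 𝐍[N]` with `∀ x ∈ N, x⁻¹ * (g * x * g⁻¹) ∈ C` form a subgroup `K ≥ A` normalised
by `T`, so `U ≤ K` (or: three subgroups lemma), i.e. `⁅N, U⁆ ≤ C`, `⁅⁅N, U⁆, U⁆ = ⊥`, so `⁅N, U⁆ = ⊥`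
(`Solv.coprime_commutator_commutator`), `N ≤ C`, `C = Q` (`eq_of_inf_normalizer_le`),
`U ≤ 𝐂[Q] ≤ Q` (`centralizer_pCore_le_of_isPSolvable`), `U ≤ T ⊓ Q = ⊥`. -/
theorem comm_eq_bot (hG : IsPSolvable p G) (hO : pPrimeCore p G = ⊥) {S A T : Subgroup G}
    (hS : IsSyl p S ⊤) (hA : A ≤ S) (hn : S ≤ 𝐍[A]) (hT : (Nat.card T).Coprime p)
    (hAT : A ≤ 𝐍[T]) : ⁅T, A⁆ = ⊥ := by
  have hQ := Grp.pCore_isPGroup p G
  have QS : pCore p G ≤ S := hS.le_of_le_normalizer hQ le_top le_normalizer_of_normal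
  have hbot := Grp.inf_eq_bot_of_isPGroup_of_coprime hQ hT
  have UT : ⁅T, A⁆ ≤ T := Solv.commutator_le_of_le_normalizer hAT
  have h1 : pCore p G ⊓ A ≤ 𝐂[T] := le_centralizer_iff.1 (commutator_eq_bot_iff_le_centralizer.1
    (eq_bot_iff.2 (hbot ▸ le_inf ((commutator_mono le_rfl inf_le_left).trans (commutator_le_right _ _))
      ((commutator_mono le_rfl inf_le_right).trans UT))))
  have hc := centralizer_pCore_le_of_isPSolvable hG hO
  have nA : A ≤ 𝐍[pCore p G ⊓ 𝐂[⁅T, A⁆]] := le_normalizer_inf le_normalizer_of_normal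
    (le_normalizer_centralizer (le_normalizer_commutator hAT le_normalizer))
  have nT : T ≤ 𝐍[pCore p G ⊓ 𝐂[⁅T, A⁆]] := le_normalizer_inf le_normalizer_of_normal
    (le_normalizer_centralizer (Solv.le_normalizer_commutator_left _ _))
  have h2 : pCore p G ⊓ A ≤ pCore p G ⊓ 𝐂[⁅T, A⁆] :=
    le_inf inf_le_left (h1.trans (Subgroup.centralizer_le UT))
  have nQ : (pCore p G).Normal := inferInstance
  have cU : pCore p G ⊓ 𝐂[⁅T, A⁆] ≤ 𝐂[⁅T, A⁆] := inf_le_right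
  generalize pCore p G ⊓ 𝐂[⁅T, A⁆] = C at nA nT h2 cU
  let K : Subgroup G :=
    { carrier := {g | g ∈ 𝐍[C] ∧ ∀ x ∈ pCore p G, ⁅x, g⁆ ∈ C}
      one_mem' := ⟨one_mem _, fun x _ => by simp⟩
      mul_mem' := fun {a b} ha hb => ⟨mul_mem ha.1 hb.1, fun x hx => by
        have := mul_mem (ha.2 x hx) (conj_mem_of_mem_normalizer ha.1 (hb.2 x hx))
        simpa [commutatorElement_def, mul_assoc] using this⟩
      inv_mem' := fun {a} ha => ⟨inv_mem ha.1, fun x hx => by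
        have := inv_conj_mem_of_mem_normalizer ha.1 (inv_mem (ha.2 x hx))
        simpa [commutatorElement_def, mul_assoc] using this⟩ }
  have AK : A ≤ K := fun a ha => ⟨nA ha, fun x hx => h2 ⟨commutator_le_left (pCore p G) A
    (commutator_mem_commutator hx ha),
    A.mul_mem (conj_mem_of_mem_normalizer (hn (QS hx)) ha) (A.inv_mem ha)⟩⟩
  have UK : ⁅T, A⁆ ≤ K := commutator_le.2 fun t ht a ha => by
    refine K.mul_mem ⟨mul_mem (mul_mem (nT ht) (nA ha)) (inv_mem (nT ht)), fun x hx => ?_⟩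
      (K.inv_mem (AK ha))
    have := conj_mem_of_mem_normalizer (nT ht) ((AK ha).2 _ (nQ.conj_mem' x hx t))
    simpa [commutatorElement_def, mul_assoc] using this
  have h3 : ⁅pCore p G, ⁅T, A⁆⁆ ≤ C := commutator_le.2 fun x hx u hu => (UK hu).2 x hx
  have h4 := Solv.coprime_commutator_commutator ⁅T, A⁆ (pCore p G) le_normalizer_of_normal (by
    obtain ⟨k, hk⟩ := hQ.exists_card_eq
    rw [hk]
    exact (hT.coprime_dvd_left (card_dvd_of_le UT)).pow_right k) (.inr (Solv.isSolvable_of_isPGroup hQ))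
  rw [commutator_eq_bot_iff_le_centralizer.2 (h3.trans cU)] at h4
  exact eq_bot_iff.2 (hbot ▸ le_inf ((le_centralizer_iff.1
    (commutator_eq_bot_iff_le_centralizer.1 h4.symm)).trans hc) UT)

/-- apply `comm_eq_bot` in `G ⧸ pPrimeCore p G` (`Grp.pPrimeCore_quotient_pPrimeCore`, `IsSyl.map`,
`le_normalizer_map`, `map_commutator`). -/
theorem comm_le_core (hG : IsPSolvable p G) {S A T : Subgroup G}
    (hS : IsSyl p S ⊤) (hA : A ≤ S) (hn : S ≤ 𝐍[A]) (hT : (Nat.card T).Coprime p)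
    (hAT : A ≤ 𝐍[T]) : ⁅T, A⁆ ≤ pPrimeCore p G := by
  have h1 := hS.map (QuotientGroup.mk' (pPrimeCore p G))
  rw [map_top_of_surjective _ (QuotientGroup.mk'_surjective _)] at h1
  have := comm_eq_bot (IsPSolvable.quotient hG (pPrimeCore p G)) (Grp.pPrimeCore_quotient_pPrimeCore p G) h1
    (map_mono hA) ((map_mono hn).trans (le_normalizer_map _))
    (Nat.Coprime.of_dvd_left (card_map_dvd T _) hT) ((map_mono hAT).trans (le_normalizer_map _))
  rw [← map_commutator, Subgroup.map_eq_bot_iff, QuotientGroup.ker_mk'] at this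
  exact this

/-- copy of `Fuk.le_core_of_pSolvable` (do not import Fuk). -/
theorem le_core (hG : IsPSolvable p G) {S T : Subgroup G} (hS : IsSyl p S ⊤)
    (hT : (Nat.card T).Coprime p) (hn : S ≤ 𝐍[T]) : T ≤ pPrimeCore p G := by
  obtain ⟨P, rfl⟩ := hS.exists_sylow_top
  have hc := PLocal.isPConstrained_iff.1 (PLocal.isPConstrained_of_isPSolvable hG)
  set f := QuotientGroup.mk' (pPrimeCore p G) with hf
  have hQ : pCore p (G ⧸ pPrimeCore p G) ≤ (P : Subgroup G).map f :=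
    Grp.pCore_le_sylow (P.mapSurjective (QuotientGroup.mk'_surjective _))
  have hbot := Grp.inf_eq_bot_of_isPGroup_of_coprime (Grp.pCore_isPGroup p (G ⧸ pPrimeCore p G))
    (Nat.Coprime.of_dvd_left (card_map_dvd T f) hT)
  have h1 : ⁅T.map f, pCore p (G ⧸ pPrimeCore p G)⁆ = ⊥ := eq_bot_iff.2 (hbot ▸ le_inf
    (commutator_le_right _ _)
    (Solv.commutator_le_of_le_normalizer (hQ.trans ((map_mono hn).trans (le_normalizer_map f)))))
  have h2 : T.map f ≤ ⊥ := hbot ▸ le_inf ((commutator_eq_bot_iff_le_centralizer.1 h1).trans hc) le_rfl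
  rwa [le_bot_iff, Subgroup.map_eq_bot_iff, QuotientGroup.ker_mk'] at h2

/-- in the quotient by `O_{p'}`: the image of `c` centralises `Q = pCore ≤ S'`, so lies in `Q ≤ S`. -/
theorem cent_le_sup (hG : IsPSolvable p G) {S S' : Subgroup G} (hS : IsSyl p S ⊤)
    (hS' : IsSyl p S' ⊤) : S' ⊓ 𝐂[S'] ≤ pPrimeCore p G ⊔ S := by
  obtain ⟨P, rfl⟩ := hS.exists_sylow_top
  obtain ⟨P', rfl⟩ := hS'.exists_sylow_top
  have hc := PLocal.isPConstrained_iff.1 (PLocal.isPConstrained_of_isPSolvable hG)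
  set f := QuotientGroup.mk' (pPrimeCore p G) with hf
  have hQ : ∀ P : Sylow p G, pCore p (G ⧸ pPrimeCore p G) ≤ (P : Subgroup G).map f := fun P =>
    Grp.pCore_le_sylow (P.mapSurjective (QuotientGroup.mk'_surjective _))
  intro c hc'
  have : f c ∈ (P : Subgroup G).map f := hQ P (hc fun y hy => by
    obtain ⟨x, hx, rfl⟩ := hQ P' hy
    rw [← map_mul, ← map_mul, hc'.2 x hx])
  rwa [← mem_comap, comap_map_eq, hf, QuotientGroup.ker_mk', sup_comm] at this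

/-- `g = z * ρ`, `u = pPart p g` is a power of `g` with `u ∈ z R` (`g ^ m ∈ z ^ m R`, or pass to
`(R ⊔ zpowers z) ⧸ R` and use `pPart_map`); `zpowers z` is Sylow in `R ⊔ zpowers z`, so
`k u k⁻¹ ∈ zpowers z` for some `k ∈ R`, and `k u k⁻¹ ∈ z R` gives `k u k⁻¹ = z`;
`s = z⁻¹ * (k g k⁻¹) ∈ R` commutes with `z` because `g` commutes with `u`.
(See `Block.CycPair.isConj_pPart_of_mk_eq`.) -/
theorem exists_conj_cent {R : Subgroup G} (hR : (Nat.card R).Coprime p) {z ρ : G}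
    (hz : ∃ k, orderOf z = p ^ k) (hn : z ∈ 𝐍[R]) (hρ : ρ ∈ R) :
    ∃ s ∈ R, s * z = z * s ∧ IsConj (z * ρ) (z * s) := by
  have hzn : zpowers z ≤ 𝐍[R] := zpowers_le.2 hn
  have hN : (R.subgroupOf (zpowers z ⊔ R)).Normal :=
    (normal_subgroupOf_iff_le_normalizer le_sup_right).2 (sup_le hzn le_normalizer)
  have zL : z ∈ zpowers z ⊔ R := mem_sup_left (mem_zpowers z)
  obtain ⟨⟨c, cL⟩, hc⟩ := isConj_iff.1 (CycPair.isConj_pPart_of_mk_eq (R.subgroupOf (zpowers z ⊔ R))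
    (by rwa [Nat.card_congr (subgroupOfEquivOfLe le_sup_right).toEquiv]) (u := ⟨z, zL⟩)
    (g := ⟨z * ρ, mul_mem zL (mem_sup_right hρ)⟩) (by rwa [orderOf_mk])
    (QuotientGroup.eq.2 (by simpa [mem_subgroupOf] using hρ)).symm)
  have h1 := commute_pPart (p := p) (Commute.refl (⟨z * ρ, mul_mem zL (mem_sup_right hρ)⟩ : ↥(zpowers z ⊔ R)))
  rw [← hc] at h1
  have h2 : z * ρ * (c * z * c⁻¹) = c * z * c⁻¹ * (z * ρ) := congrArg Subtype.val h1.eq
  refine ⟨z⁻¹ * (c⁻¹ * (z * ρ) * c), ?_, ?_, isConj_iff.2 ⟨c⁻¹, by group⟩⟩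
  · obtain ⟨_, ⟨i, rfl⟩, r, hr, rfl⟩ := (mem_sup_of_le_normalizer_right hzn).1 cL
    have := R.mul_mem (R.mul_mem (inv_conj_mem_of_mem_normalizer hn (R.inv_mem hr))
      (inv_conj_mem_of_mem_normalizer (zpow_mem hn i) hρ)) hr
    convert this using 1
    group
  · calc _ = z⁻¹ * c⁻¹ * (z * ρ * (c * z * c⁻¹)) * c := by group
      _ = _ := by rw [h2]; group

/-- Otherwise `𝐍[P]` centralises `z`; conjugates of `z ^ k` in `P` are `𝐍[P]`-conjugate
(`Sylow.conj_eq_normalizer_conj_of_mem_centralizer`), so `MonoidHom.transfer_eq_pow` (to the commutative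
group `P`) gives `z ^ P.index = 1` in the perfect group `G`; `P.index` is prime to `p`.
(Search the library for a ready lemma on `P ∩ G' ∩ Z(N(P))`.) -/
theorem exists_conj_ne (hG : _root_.commutator G = ⊤) {P : Subgroup G} (hP : IsSyl p P ⊤)
    (hab : P ≤ 𝐂[P]) {z : G} (hz : z ∈ P) (h1 : z ≠ 1) : ∃ c ∈ P, c ≠ z ∧ IsConj z c := by
  by_contra hcon
  push Not at hcon
  obtain ⟨P, rfl⟩ := hP.exists_sylow_top
  have : IsMulCommutative (P : Subgroup G) := ⟨⟨fun a b => Subtype.ext (hab b.2 a a.2)⟩⟩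
  have key : ∀ (k : ℕ) (g : G), g⁻¹ * z ^ k * g ∈ (P : Subgroup G) → g⁻¹ * z ^ k * g = z ^ k := by
    intro k g hg
    obtain ⟨n, hn, e⟩ := P.conj_eq_normalizer_conj_of_mem_centralizer _ g (hab (pow_mem hz k)) (hab hg)
    have : n⁻¹ * z * n = z := by
      by_contra c
      exact hcon _ (inv_conj_mem_of_mem_normalizer hn hz) c (isConj_iff.2 ⟨n⁻¹, by group⟩)
    rw [e]
    conv_rhs => rw [← this]
    simpa using (conj_pow (a := n⁻¹) (b := z) (i := k)).symm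
  open scoped IsMulCommutative in
  have h2 := MonoidHom.transfer_eq_pow (MonoidHom.id (P : Subgroup G)) z key
  open scoped IsMulCommutative in
  rw [show MonoidHom.transfer (MonoidHom.id (P : Subgroup G)) z = 1 from
    Abelianization.commutator_subset_ker _ (hG.ge (mem_top z))] at h2
  obtain ⟨k, hk⟩ := P.isPGroup' ⟨z, hz⟩
  exact h1 ((pow_eq_one_iff_of_coprime ((hp.out.coprime_iff_not_dvd.2 P.not_dvd_index).pow_left k)).1
    ⟨congrArg Subtype.val hk, (congrArg Subtype.val h2).symm⟩)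

end Cfsg.Agent.TSy
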