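import Mathlib
import Cfsg.Agent.TSy.Grp1

/-! S3019: the minimal counterexample satisfies the character-theoretic interface. -/

set_option autoImplicit false
set_option linter.unusedSectionVars false
set_option linter.unusedVariables false

namespace Cfsg.Agent.TSy

open Cfsg Cfsg.Agent Subgroup Cfsg.Agent.PLocal Cfsg.Agent.PLocal.Amb Cfsg.Agent.Block
open Cfsg.Agent.Char Cfsg.Agent.Glau
open scoped ComplexConjugate commutatorElement

variable {G : Type*} [Group G] {p : ℕ}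

theorem zc_cj (g : G) (P : Subgroup G) : Zc cj(g, P) = cj(g, Zc P) := by
  rw [Zc, Zc, cj_inf, centralizer_cj]

theorem wc_le (P : Subgroup G) : Wc P ≤ P := (closure_le _).2 fun _ h => h.1

theorem mem_wc {P : Subgroup G} {c g : G} (h1 : c ∈ P) (h2 : c ∈ cj(g, Zc P)) : c ∈ Wc P :=
  subset_closure ⟨h1, g, h2⟩

theorem zc_le_wc (P : Subgroup G) : Zc P ≤ Wc P := fun _ h =>
  mem_wc (g := 1) h.1 (by rwa [cj_one])

/-- weak closure -/
theorem le_normalizer_wc [Finite G] {P : Subgroup G} {g : G} (h : Wc P ≤ cj(g, P)) :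
    cj(g, P) ≤ 𝐍[Wc P] := by
  have k1 : ∀ x ∈ P, cj(x, Wc P) ≤ Wc P := fun x hx => by
    rw [cj_le_iff]
    refine (closure_le _).2 ?_
    rintro c ⟨h1, y, h2⟩
    rw [SetLike.mem_coe, mem_cj, inv_inv]
    refine mem_wc (g := x * y) (P.mul_mem (P.mul_mem hx h1) (inv_mem hx)) ?_
    rw [cj_mul]
    exact conj_mem_cj x h2
  have k2 : Wc P ≤ cj(g, Wc P) := (closure_le _).2 (by
    rintro c ⟨h1, y, h2⟩
    rw [SetLike.mem_coe, mem_cj]
    refine mem_wc (g := g⁻¹ * y) (mem_cj.1 (h (mem_wc h1 h2))) ?_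
    rw [cj_mul]
    simpa using conj_mem_cj g⁻¹ h2)
  have k3 : Wc P = cj(g, Wc P) := eq_of_le_of_card_ge k2 (card_cj _ _).le
  rw [k3, normalizer_cj]
  exact cj_mono g (le_normalizer_iff_cj.2 k1)

theorem le_normalizer_wc' [Finite G] (P : Subgroup G) : P ≤ 𝐍[Wc P] := by
  have := le_normalizer_wc (P := P) (g := 1) (by rw [cj_one]; exact wc_le P)
  rwa [cj_one] at this

/-- ambient `O_{p'}` -/
abbrev Oq (p : ℕ) (H : Subgroup G) : Subgroup G := (pPrimeCore p H).map H.subtype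

variable [Finite G] [hp : Fact p.Prime]

theorem oq_cop (H : Subgroup G) : (Nat.card (Oq p H)).Coprime p := by
  rw [card_map_of_injective H.subtype_injective]
  exact Grp.pPrimeCore_coprime p H

theorem syl_sub {S H : Subgroup G} (hS : IsSyl p S H) : IsSyl p (S.subgroupOf H) ⊤ := by
  obtain ⟨P, hP⟩ := hS.exists_sylow
  exact hP ▸ isSyl_top P

theorem card_sub {T H : Subgroup G} (h : T ≤ H) : Nat.card (T.subgroupOf H) = Nat.card T :=
  Nat.card_congr (subgroupOfEquivOfLe h).toEquiv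

theorem norm_sub {A T H : Subgroup G} (h : T ≤ H) (hn : A ≤ 𝐍[T]) :
    A.subgroupOf H ≤ 𝐍[T.subgroupOf H] := by
  rw [← subgroupOf_normalizer_eq h]
  exact comap_mono hn

theorem le_oq {H S T : Subgroup G} (hH : IsPSolvable p H) (hS : IsSyl p S H) (hTH : T ≤ H)
    (hT : (Nat.card T).Coprime p) (hn : S ≤ 𝐍[T]) : T ≤ Oq p H := by
  rw [← map_subgroupOf_of_le hTH]
  exact map_mono (le_core hH (syl_sub hS) (by rwa [card_sub hTH]) (norm_sub hTH hn))

theorem comm_le_oq {H S A T : Subgroup G} (hH : IsPSolvable p H) (hS : IsSyl p S H) (hA : A ≤ S)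
    (hn : S ≤ 𝐍[A]) (hTH : T ≤ H) (hT : (Nat.card T).Coprime p) (hAT : A ≤ 𝐍[T]) :
    ⁅T, A⁆ ≤ Oq p H := by
  have hAH := hA.trans hS.le
  rw [← map_subgroupOf_of_le hTH, ← map_subgroupOf_of_le hAH, ← map_commutator]
  exact map_mono (comm_le_core hH (syl_sub hS) (comap_mono hA) (norm_sub hAH hn)
    (by rwa [card_sub hTH]) (norm_sub hTH hAT))

theorem zc_le_sup {H S S' : Subgroup G} (hH : IsPSolvable p H) (hS : IsSyl p S H)
    (hS' : IsSyl p S' H) : Zc S' ≤ Oq p H ⊔ S := by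
  have := map_mono (f := H.subtype) (cent_le_sup hH (syl_sub hS) (syl_sub hS'))
  rw [Subgroup.map_sup, map_subgroupOf_of_le hS.le] at this
  refine fun c hc => this ⟨⟨c, hS'.le hc.1⟩, ⟨hc.1, ?_⟩, rfl⟩
  rw [SetLike.mem_coe, centralizer_subgroupOf hS'.le]
  exact hc.2

/-- minimal counterexample -/
structure Ce (p : ℕ) (P : Subgroup G) : Prop where
  syl : IsSyl p P ⊤
  ps : ∀ H : Subgroup G, H ≠ ⊤ → IsPSolvable p H
  two : ∀ g h : G, IsPSolvable p ↥(cj(g, P) ⊔ cj(h, P))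
  nrm : ∀ A : Subgroup G, IsPGroup p A → 𝐍[A] = ⊤ → A = ⊥

namespace Ce

variable {P : Subgroup G} (h : Ce p P)
include h

theorem syl_cj (g : G) : IsSyl p cj(g, P) ⊤ := h.syl.cj_of_mem (mem_top g)

theorem wc_pg : IsPGroup p (Wc P) := h.syl.pgrp.to_le (wc_le P)

theorem wc_comm : Wc P ≤ 𝐂[Wc P] := by
  have key : ∀ c ∈ {c | c ∈ P ∧ ∃ g : G, c ∈ cj(g, Zc P)},
      ∀ d ∈ {c | c ∈ P ∧ ∃ g : G, c ∈ cj(g, Zc P)}, c * d = d * c := by
    rintro c ⟨c1, g, c2⟩ d ⟨d1, k, d2⟩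
    rw [← zc_cj] at c2 d2
    have hn : cj(k, P) ≤ 𝐍[Oq p (cj(g, P) ⊔ cj(k, P))] :=
      le_sup_right.trans (le_normalizer_map_subtype _)
    obtain ⟨r, hr, x, hx, rfl⟩ := (mem_sup_of_le_normalizer_left hn).1
      (zc_le_sup (h.two g k) ((h.syl_cj k).mono le_sup_right le_top)
        ((h.syl_cj g).mono le_sup_left le_top) c2)
    have e : r * x * d * (r * x)⁻¹ * d⁻¹ = r * (d * r⁻¹ * d⁻¹) := by
      rw [mul_assoc r x d, d2.2 x hx]; group
    have : r * x * d * (r * x)⁻¹ * d⁻¹ ∈ P ⊓ Oq p (cj(g, P) ⊔ cj(k, P)) :=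
      ⟨P.mul_mem (P.mul_mem (P.mul_mem c1 d1) (inv_mem c1)) (inv_mem d1), by
        rw [e]
        exact mul_mem hr (conj_mem_of_mem_normalizer (hn d2.1) (inv_mem hr))⟩
    rw [Grp.inf_eq_bot_of_isPGroup_of_coprime h.syl.pgrp (oq_cop _), mem_bot, mul_inv_eq_one,
      mul_inv_eq_iff_eq_mul] at this
    exact this
  refine (closure_le _).2 fun c hc => ?_
  rw [SetLike.mem_coe, Wc, centralizer_closure]
  exact fun d hd => key d hd c hc

theorem cent_ne_top {z : G} (hz : z ∈ P) (h1 : z ≠ 1) : centralizer ({z} : Set G) ≠ ⊤ := fun e =>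
  h1 (zpowers_eq_bot.1 (h.nrm _ (h.syl.pgrp.to_le (zpowers_le.2 hz)) (top_le_iff.1
    (e.ge.trans ((centralizer_zpowers z).ge.trans (centralizer_le_normalizer' _))))))

theorem core {R : Subgroup G} (hR : (Nat.card R).Coprime p) (hn : P ≤ 𝐍[R]) {z : G}
    (hz : z ∈ Wc P) (h1 : z ≠ 1) :
    R ⊓ centralizer ({z} : Set G) ≤ Oq p (centralizer ({z} : Set G)) := by
  have hAX : Wc P ≤ centralizer ({z} : Set G) :=
    h.wc_comm.trans (centralizer_le (Set.singleton_subset_iff.2 hz))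
  have hX := h.ps _ (h.cent_ne_top (wc_le P hz) h1)
  have hcX : 𝐂[Wc P] ≤ centralizer ({z} : Set G) := centralizer_le (Set.singleton_subset_iff.2 hz)
  generalize centralizer ({z} : Set G) = X at hAX hX hcX
  obtain ⟨S, hS, hAS⟩ := exists_isSyl_ge h.wc_pg hAX
  obtain ⟨g, -, hg⟩ := h.syl.exists_le_cj hS.pgrp le_top
  have hSn : S ≤ 𝐍[Wc P] := hg.trans (le_normalizer_wc (hAS.trans hg))
  have hT : (Nat.card ↥(R ⊓ X)).Coprime p := hR.coprime_dvd_left (card_dvd_of_le inf_le_left)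
  have hAT : Wc P ≤ 𝐍[R ⊓ X] := le_normalizer_inf ((wc_le P).trans hn) (hAX.trans le_normalizer)
  obtain ⟨n, hn'⟩ := h.wc_pg.exists_card_eq
  rw [← Solv.coprime_commutator_sup_centralizer (Wc P) (R ⊓ X) hAT
    (hn' ▸ (hT.symm.pow_left n)) (.inl (Solv.isSolvable_of_isPGroup h.wc_pg))]
  refine sup_le (comm_le_oq hX hS hAS hSn inf_le_right hT hAT) ?_
  have hN := h.ps 𝐍[Wc P] fun e => h1 (mem_bot.1 ((h.nrm _ h.wc_pg e).le hz))
  have k1 : R ⊓ 𝐂[Wc P] ≤ Oq p 𝐍[Wc P] :=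
    le_oq hN (h.syl.mono (le_normalizer_wc' P) le_top)
      (inf_le_right.trans (centralizer_le_normalizer' _))
      (hR.coprime_dvd_left (card_dvd_of_le inf_le_left))
      (le_normalizer_inf hn (le_normalizer_centralizer (le_normalizer_wc' P)))
  have k2 : Oq p 𝐍[Wc P] ⊓ 𝐂[Wc P] ≤ Oq p X :=
    le_oq hX hS (inf_le_right.trans hcX)
      ((oq_cop _).coprime_dvd_left (card_dvd_of_le inf_le_left))
      (le_normalizer_inf (hSn.trans (le_normalizer_map_subtype _)) (le_normalizer_centralizer hSn))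
  exact fun x hx => k2 ⟨k1 ⟨hx.1.1, hx.2⟩, hx.2⟩

end Ce

theorem Ce.cl {G : Type*} [Group G] [Fintype G] {M : Ideal AlgInt} (hM : IsPModular p M)
    {P B : Subgroup G} (h : Ce p P) (hB : B ≤ Zc P) : CL M p (Wc P) B := by
  intro g
  have h2 := h.two 1 g
  rw [cj_one] at h2
  have hn : P ≤ 𝐍[Oq p (P ⊔ cj(g, P))] := le_sup_left.trans (le_normalizer_map_subtype _)
  have h3 := zc_le_sup h2 (h.syl.mono le_sup_left le_top) ((h.syl_cj g).mono le_sup_right le_top)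
  have hR := oq_cop (p := p) (P ⊔ cj(g, P))
  have hn' : cj(g, P) ≤ 𝐍[Oq p (P ⊔ cj(g, P))] := le_sup_right.trans (le_normalizer_map_subtype _)
  generalize Oq p (P ⊔ cj(g, P)) = R at hn h3 hR hn'
  obtain ⟨y, hy, hy'⟩ := (h.syl.mono (le_sup_right : P ≤ R ⊔ P) le_top).exists_cj_le
    (R := Zc cj(g, P)) ((h.syl_cj g).pgrp.to_le inf_le_left) h3
  rw [sup_comm] at hy
  obtain ⟨x, hx, r, hr, rfl⟩ := (mem_sup_of_le_normalizer_right hn).1 hy
  rw [cj_mul, cj_le_iff, cj_of_mem (inv_mem hx), zc_cj, ← cj_mul] at hy'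
  have hk : cj(r * g, B) ≤ Wc P := fun c hc =>
    mem_wc (hy' (cj_mono _ hB hc)) (cj_mono _ hB hc)
  refine ⟨r * g, hk, fun b hb => ?_⟩
  have hρ : (r * g * b * (r * g)⁻¹)⁻¹ * (g * b * g⁻¹) ∈ R := by
    have := mul_mem hr (inv_conj_mem_of_mem_normalizer
      (hn' (conj_mem_cj g (hB hb).1)) (inv_mem hr))
    convert this using 1
    group
  refine ⟨not_dvd_iff_coprime.2 (hR.coprime_dvd_left (orderOf_dvd_natCard R hρ)),
    fun a ha h1 χ hχ => ?_⟩
  have hz : a * (r * g * b * (r * g)⁻¹) ∈ Wc P := mul_mem ha (hk (conj_mem_cj _ hb))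
  have e : a * (g * b * g⁻¹) = a * (r * g * b * (r * g)⁻¹) *
      ((r * g * b * (r * g)⁻¹)⁻¹ * (g * b * g⁻¹)) := by group
  rw [e]
  generalize a * (r * g * b * (r * g)⁻¹) = z at hz h1
  have ho := orderOf_eq_pow_of_mem h.wc_pg hz
  obtain ⟨s, hs, hsz, hc⟩ := exists_conj_cent hR ho (hn (wc_le P hz)) hρ
  obtain ⟨s', hs', rfl⟩ := h.core hR hn hz h1 ⟨hs, mem_centralizer_singleton_iff.2 hsz⟩
  have := apply_mul_eq_of_mem_principal hM ho (mem_B0.1 hχ) (pPrimeCore p _)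
    (Grp.not_dvd_card_pPrimeCore p _) (y := 1) not_dvd_orderOf_one hs'
  rw [χ.2.isClassFunction.eq_of_isConj hc]
  simpa using this

end Cfsg.Agent.TSy
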